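import Mathlib.RingTheory.MvPolynomial.Homogeneous
import Mathlib.Algebra.MvPolynomial.NoZeroDivisors
import Mathlib.Algebra.MvPolynomial.PDeriv
import Mathlib.FieldTheory.IsAlgClosed.Basic
import Mathlib.LinearAlgebra.Matrix.Rank
import Mathlib.LinearAlgebra.Matrix.Symmetric
import Mathlib.LinearAlgebra.Matrix.ToLinearEquiv
import Mathlib.LinearAlgebra.Matrix.DotProduct
import Mathlib.Tactic

set_option autoImplicit false
universe u

namespace Groth.Agent.PlaneConicRank

open MvPolynomial Matrix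

variable {k : Type u} [Field k]

noncomputable def lin (a : Fin 3 → k) : MvPolynomial (Fin 3) k := ∑ i, a i • X i

noncomputable def quad (Q : Matrix (Fin 3) (Fin 3) k) : MvPolynomial (Fin 3) k :=
  ∑ i : Fin 3, ∑ j : Fin 3, Q i j • (X i * X j)

theorem eval_pderiv_lin (a : Fin 3 → k) (u : Fin 3 → k) (i : Fin 3) :
    eval u (pderiv i (lin a)) = a i := by
  simp [lin, map_sum, pderiv_X, Pi.single_apply, smul_eval, apply_ite]

theorem eval_lin (a u : Fin 3 → k) : eval u (lin a) = a ⬝ᵥ u := by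
  simp [lin, dotProduct, smul_eval]

theorem eval_pderiv_quad (Q : Matrix (Fin 3) (Fin 3) k) (hQ : Q.IsSymm) (u : Fin 3 → k) (i : Fin 3) :
    eval u (pderiv i (quad Q)) = 2 * (Q *ᵥ u) i := by
  have h10 := hQ.apply 1 0
  have h20 := hQ.apply 2 0
  have h21 := hQ.apply 2 1
  fin_cases i <;>
    simp [quad, Fin.sum_univ_three, pderiv_X, Pi.single_apply, mulVec, dotProduct, smul_eval] <;>
    simp [h10, h20, h21] <;> ring

theorem mulVec_of_factor (Q : Matrix (Fin 3) (Fin 3) k) (hQ : Q.IsSymm) (a b : Fin 3 → k)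
    (h : quad Q = lin a * lin b) (u : Fin 3 → k) :
    (2 : k) • (Q *ᵥ u) = (b ⬝ᵥ u) • a + (a ⬝ᵥ u) • b := by
  funext i
  have := congrArg (fun p => eval u (pderiv i p)) h
  simp only [eval_pderiv_quad Q hQ, pderiv_mul, map_add, map_mul, eval_pderiv_lin, eval_lin] at this
  simp only [Pi.smul_apply, Pi.add_apply, smul_eq_mul, this]
  ring

theorem quad_sq_add (w w' : Fin 3 → k) :
    quad (vecMulVec w w + vecMulVec w' w') = lin w * lin w + lin w' * lin w' := by
  simp [quad, lin, Fin.sum_univ_three, vecMulVec_apply, smul_eq_C_mul]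
  ring

variable [CharZero k]

theorem exists_ne (Q : Matrix (Fin 3) (Fin 3) k) (hQ : Q.IsSymm) (h0 : Q ≠ 0) :
    ∃ v, v ⬝ᵥ (Q *ᵥ v) ≠ 0 := by
  by_contra h
  simp only [not_exists, not_not] at h
  apply h0
  ext i j
  have h1 := h (Pi.single i 1 + Pi.single j 1)
  have h2 := h (Pi.single i 1)
  have h3 := h (Pi.single j 1)
  simp [mulVec_add, mulVec_single, dotProduct_add, add_dotProduct] at h1 h2 h3
  have h4 := hQ.apply i j
  have : (2 : k) * Q i j = 0 := by linear_combination h1 - h2 - h3 - h4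
  simpa using this

variable [IsAlgClosed k]

theorem step (Q : Matrix (Fin 3) (Fin 3) k) (hQ : Q.IsSymm) (h0 : Q ≠ 0) :
    ∃ (w : Fin 3 → k) (Q' : Matrix (Fin 3) (Fin 3) k), Q = vecMulVec w w + Q' ∧ Q'.IsSymm ∧
      LinearMap.ker Q.mulVecLin < LinearMap.ker Q'.mulVecLin := by
  obtain ⟨v, hv⟩ := exists_ne Q hQ h0
  obtain ⟨s, hs⟩ := IsAlgClosed.exists_eq_mul_self (v ⬝ᵥ (Q *ᵥ v))⁻¹
  set w : Fin 3 → k := s • (Q *ᵥ v) with hw
  set Q' := Q - vecMulVec w w with hQ'
  have hsymm : Q'.IsSymm := by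
    refine hQ.sub (Matrix.IsSymm.ext fun i j => ?_)
    simp [vecMulVec_apply, mul_comm]
  have key : ∀ u, Q' *ᵥ u = Q *ᵥ u - (w ⬝ᵥ u) • w := fun u => by
    rw [hQ', sub_mulVec, vecMulVec_mulVec]
    funext i
    simp [mul_comm]
  have hwv : ∀ u, w ⬝ᵥ u = s * (v ⬝ᵥ (Q *ᵥ u)) := fun u => by
    rw [hw, smul_dotProduct, dotProduct_mulVec v Q u, smul_eq_mul, ← mulVec_transpose, hQ.eq]
  refine ⟨w, Q', by simp [hQ'], hsymm, lt_of_le_of_ne (fun u hu => ?_) ?_⟩
  · simp only [LinearMap.mem_ker, mulVecLin_apply] at hu ⊢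
    rw [key, hwv, hu]
    simp
  · intro h
    have hvQ' : v ∈ LinearMap.ker Q'.mulVecLin := by
      simp only [LinearMap.mem_ker, mulVecLin_apply]
      rw [key, hwv, hw]
      funext i
      simp only [Pi.sub_apply, Pi.smul_apply, smul_eq_mul, Pi.zero_apply]
      have : (v ⬝ᵥ (Q *ᵥ v)) * (s * s) = 1 := by rw [← hs, mul_inv_cancel₀ hv]
      linear_combination -(Q *ᵥ v) i * this
    rw [← h] at hvQ'
    simp only [LinearMap.mem_ker, mulVecLin_apply] at hvQ'
    exact hv (by rw [hvQ']; simp)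

theorem factor (Q : Matrix (Fin 3) (Fin 3) k) (hQ : Q.IsSymm) (h0 : Q ≠ 0) (hdet : Q.det = 0) :
    ∃ a b : Fin 3 → k, quad Q = lin a * lin b := by
  obtain ⟨u, hu, hQu⟩ := Matrix.exists_mulVec_eq_zero_iff.2 hdet
  have h1 : 1 ≤ Module.finrank k (LinearMap.ker Q.mulVecLin) :=
    Submodule.one_le_finrank_iff.2 fun h => hu (by
      have : u ∈ LinearMap.ker Q.mulVecLin := by simpa using hQu
      rwa [h, Submodule.mem_bot] at this)
  obtain ⟨w, Q', e, hQ', hlt⟩ := step Q hQ h0
  have h2 := Submodule.finrank_lt_finrank_of_lt hlt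
  obtain ⟨w', he⟩ : ∃ w', Q' = vecMulVec w' w' := by
    by_cases hz : Q' = 0
    · exact ⟨0, by simp [hz]⟩
    obtain ⟨w', Q'', e', -, hlt'⟩ := step Q' hQ' hz
    have h3 := Submodule.finrank_lt_finrank_of_lt hlt'
    have h4 : LinearMap.ker Q''.mulVecLin = ⊤ := by
      refine Submodule.eq_top_of_finrank_eq ?_
      have := Submodule.finrank_le (LinearMap.ker Q''.mulVecLin)
      simp only [Module.finrank_fin_fun] at this ⊢
      omega
    refine ⟨w', ?_⟩
    have : Q'' = 0 := by
      apply Matrix.toLin'.injective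
      rw [map_zero, Matrix.toLin'_apply']
      exact LinearMap.ker_eq_top.1 h4
    simpa [this] using e'
  obtain ⟨i, hi⟩ := IsAlgClosed.exists_eq_mul_self (-1 : k)
  refine ⟨w + i • w', w - i • w', ?_⟩
  have hc : (C i * C i : MvPolynomial (Fin 3) k) = -1 := by rw [← map_mul, ← hi, map_neg, map_one]
  rw [e, he, quad_sq_add]
  simp only [lin, Pi.add_apply, Pi.sub_apply, Pi.smul_apply, add_smul, sub_smul, Finset.sum_add_distrib,
    Finset.sum_sub_distrib, smul_eq_mul, mul_smul, ← Finset.smul_sum]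
  simp only [smul_eq_C_mul]
  linear_combination (∑ x, C (w' x) * X x) ^ 2 * hc

theorem rank_two (Q : Matrix (Fin 3) (Fin 3) k) (hQ : Q.IsSymm) (a b : Fin 3 → k)
    (hab : LinearIndependent k ![a, b]) (h : quad Q = lin a * lin b) : Q.rank = 2 := by
  have key := mulVec_of_factor Q hQ a b h
  set L : (Fin 3 → k) →ₗ[k] Fin 2 → k := LinearMap.pi ![dotProductBilin k k b, dotProductBilin k k a] with hL
  have hLs : LinearMap.range L = ⊤ := by
    by_contra hne
    obtain ⟨φ, hφ, hle⟩ := Submodule.exists_le_ker_of_lt_top (LinearMap.range L) (lt_top_iff_ne_top.2 hne)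
    have hz : φ (Pi.single 0 1) • b + φ (Pi.single 1 1) • a = 0 := by
      apply dotProduct_eq_zero
      intro u
      have h1 : φ (L u) = 0 := hle ⟨u, rfl⟩
      rw [show L u = (b ⬝ᵥ u) • Pi.single 0 1 + (a ⬝ᵥ u) • Pi.single 1 1 by
        funext i; fin_cases i <;> simp [hL], map_add, map_smul, map_smul] at h1
      simp only [smul_eq_mul] at h1
      simp only [add_dotProduct, smul_dotProduct, smul_eq_mul]
      linear_combination h1
    obtain ⟨e1, e2⟩ := LinearIndependent.pair_iff.1 hab (φ (Pi.single 1 1)) (φ (Pi.single 0 1))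
      (by rw [add_comm]; exact hz)
    apply hφ
    refine (Pi.basisFun k (Fin 2)).ext fun i => ?_
    fin_cases i <;> simp [e1, e2]
  have : LinearMap.range Q.mulVecLin = Submodule.span k (Set.range ![a, b]) := by
    apply le_antisymm
    · rintro _ ⟨u, rfl⟩
      have : Q *ᵥ u = (2 : k)⁻¹ • ((b ⬝ᵥ u) • a + (a ⬝ᵥ u) • b) := by
        rw [← key u, inv_smul_smul₀ two_ne_zero]
      rw [mulVecLin_apply, this]
      exact Submodule.smul_mem _ _ (add_mem (Submodule.smul_mem _ _ (Submodule.subset_span ⟨0, rfl⟩))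
        (Submodule.smul_mem _ _ (Submodule.subset_span ⟨1, rfl⟩)))
    · rw [Submodule.span_le]
      rintro _ ⟨i, rfl⟩
      obtain ⟨u, hu⟩ := (LinearMap.range_eq_top.1 hLs) (Pi.single i 1)
      refine ⟨(2 : k) • u, ?_⟩
      rw [map_smul, mulVecLin_apply, key]
      have hb := congrFun hu 0
      have ha := congrFun hu 1
      simp [hL] at hb ha
      rw [hb, ha]
      fin_cases i <;> simp
  rw [Matrix.rank, this, finrank_span_eq_card hab]
  simp

theorem rank_one (Q : Matrix (Fin 3) (Fin 3) k) (hQ : Q.IsSymm) (h0 : Q ≠ 0) (a : Fin 3 → k)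
    (h : quad Q = lin a * lin a) : Q.rank = 1 := by
  have key := mulVec_of_factor Q hQ a a h
  refine le_antisymm ?_ ?_
  · have : LinearMap.range Q.mulVecLin ≤ Submodule.span k {a} := by
      rintro _ ⟨u, rfl⟩
      have : Q *ᵥ u = (2 : k)⁻¹ • ((a ⬝ᵥ u) • a + (a ⬝ᵥ u) • a) := by
        rw [← key u, inv_smul_smul₀ two_ne_zero]
      rw [mulVecLin_apply, this, ← add_smul, smul_smul]
      exact Submodule.smul_mem _ _ (Submodule.subset_span rfl)
    exact (Submodule.finrank_mono this).trans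
      ((finrank_span_le_card ({a} : Set (Fin 3 → k))).trans (by simp))
  · refine Submodule.one_le_finrank_iff.2 fun h' => h0 ?_
    apply Matrix.toLin'.injective
    rw [map_zero, Matrix.toLin'_apply']
    exact LinearMap.range_eq_bot.1 h'

theorem dep (Q : Matrix (Fin 3) (Fin 3) k) (a b : Fin 3 → k) (h : quad Q = lin a * lin b)
    (hab : ¬ LinearIndependent k ![a, b]) : ∃ c, quad Q = lin c * lin c := by
  rw [LinearIndependent.pair_iff] at hab
  push Not at hab
  obtain ⟨s, t, hst, hne⟩ := hab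
  have hlin : ∀ (r : k) (x : Fin 3 → k), lin (r • x) = C r * lin x := fun r x => by
    simp [lin, Finset.mul_sum, smul_eq_C_mul, mul_assoc]
  by_cases ht : t = 0
  · have hs : s ≠ 0 := fun hs => hne hs ht
    have : a = 0 := by simpa [ht, hs] using hst
    exact ⟨0, by rw [h, this]; simp [lin]⟩
  · have hb : b = (-(s / t)) • a := by
      funext i
      have := congrFun hst i
      simp at this ⊢
      field_simp
      linear_combination this
    obtain ⟨r, hr⟩ := IsAlgClosed.exists_eq_mul_self (-(s / t))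
    refine ⟨r • a, ?_⟩
    rw [h, hb, hlin, hlin, hr, map_mul]
    ring

theorem main (Q : Matrix (Fin 3) (Fin 3) k) (hQ : Q.IsSymm) (hQ0 : Q ≠ 0) (f : MvPolynomial (Fin 3) k)
    (hf : f = ∑ i : Fin 3, ∑ j : Fin 3, Q i j • (MvPolynomial.X i * MvPolynomial.X j)) :
    (Irreducible f ↔ Q.det ≠ 0) ∧
    ((∃ u : Fin 3 → k, u ≠ 0 ∧ ∀ i : Fin 3, MvPolynomial.eval u (MvPolynomial.pderiv i f) = 0) ↔ Q.det = 0) ∧
    ((∃ a b : Fin 3 → k, LinearIndependent k ![a, b] ∧
        f = (∑ i : Fin 3, a i • MvPolynomial.X i) * (∑ i : Fin 3, b i • MvPolynomial.X i)) ↔ Q.rank = 2) ∧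
    ((∃ a : Fin 3 → k, f = (∑ i : Fin 3, a i • MvPolynomial.X i) ^ 2) ↔ Q.rank = 1) := by
  change f = quad Q at hf
  subst hf
  have hrk : Q.rank < 3 → Q.det = 0 := fun h => by
    by_contra hd
    rw [Matrix.rank_of_isUnit Q ((Matrix.isUnit_iff_isUnit_det _).2 (IsUnit.mk0 _ hd))] at h
    simp at h
  have hfac : ∀ a b : Fin 3 → k, quad Q = lin a * lin b → Q.det = 0 := fun a b h => by
    apply hrk
    by_cases hab : LinearIndependent k ![a, b]
    · rw [rank_two Q hQ a b hab h]; norm_num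
    · obtain ⟨c, hc⟩ := dep Q a b h hab
      rw [rank_one Q hQ hQ0 c hc]; norm_num
  have hne : quad Q ≠ 0 := fun h => hQ0 (by
    ext i j
    have := eval_pderiv_quad Q hQ (Pi.single j 1) i
    rw [h] at this
    simpa using this.symm)
  have hhom : ∀ a : Fin 3 → k, (lin a).IsHomogeneous 1 := fun a =>
    IsHomogeneous.sum _ _ _ fun i _ => by
      rw [smul_eq_C_mul]; simpa using (isHomogeneous_C (Fin 3) (a i)).mul (isHomogeneous_X k i)
  have hqhom : (quad Q).IsHomogeneous 2 := IsHomogeneous.sum _ _ _ fun i _ =>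
    IsHomogeneous.sum _ _ _ fun j _ => by
      rw [smul_eq_C_mul]
      simpa using (isHomogeneous_C (Fin 3) (Q i j)).mul ((isHomogeneous_X k i).mul (isHomogeneous_X k j))
  refine ⟨⟨fun hirr hd => ?_, fun hd => ?_⟩, ?_, ?_, ?_⟩
  · obtain ⟨a, b, h⟩ := factor Q hQ hQ0 hd
    have hu : ∀ a : Fin 3 → k, ¬ IsUnit (lin a) := fun a hu => by
      have h' := hu.map (constantCoeff (R := k) (σ := Fin 3))
      simp [lin] at h'
    rcases hirr.isUnit_or_isUnit h with h | h <;> exact hu _ h
  · refine ⟨fun hu => ?_, fun p q hpq => ?_⟩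
    · have h' := hu.map (constantCoeff (R := k) (σ := Fin 3))
      simp [quad] at h'
    · by_contra hc
      rw [not_or] at hc
      have hp0 : p ≠ 0 := fun h => hne (by rw [hpq, h, zero_mul])
      have hq0 : q ≠ 0 := fun h => hne (by rw [hpq, h, mul_zero])
      have hdeg : p.totalDegree + q.totalDegree = 2 := by
        rw [← totalDegree_mul_of_isDomain hp0 hq0, ← hpq, hqhom.totalDegree hne]
      have hpos : ∀ r : MvPolynomial (Fin 3) k, r ≠ 0 → ¬ IsUnit r → r.totalDegree ≠ 0 := fun r hr hu h => by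
        rw [totalDegree_eq_zero_iff_eq_C] at h
        exact hu (h ▸ (IsUnit.mk0 _ (fun h0 => hr (by rw [h, h0, map_zero]))).map C)
      have h1 := hpos p hp0 hc.1
      have h2 := hpos q hq0 hc.2
      have dec : ∀ r : MvPolynomial (Fin 3) k, r.totalDegree = 1 →
          ∃ (c : k) (a : Fin 3 → k), r = C c + lin a := fun r hr => by
        have h := sum_homogeneousComponent r
        rw [hr, Finset.sum_range_succ, Finset.sum_range_one, homogeneousComponent_zero] at h
        have hm : homogeneousComponent 1 r ∈ Submodule.span k (Set.range (X : Fin 3 → MvPolynomial (Fin 3) k)) := by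
          rw [← homogeneousSubmodule_one_eq_span_X]; exact homogeneousComponent_isHomogeneous 1 r
        obtain ⟨a, ha⟩ := (Submodule.mem_span_range_iff_exists_fun k).1 hm
        exact ⟨_, a, by rw [lin, ha, h]⟩
      obtain ⟨α, a, rfl⟩ := dec p (by omega)
      obtain ⟨β, b, rfl⟩ := dec q (by omega)
      refine hd (hfac a b ?_)
      have h := congrArg (homogeneousComponent 2) hpq
      rw [homogeneousComponent_of_mem hqhom, if_pos rfl] at h
      rw [h, show (C α + lin a) * (C β + lin b) = C (α * β) + C α * lin b + C β * lin a + lin a * lin b by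
        rw [map_mul]; ring, map_add, map_add, map_add, homogeneousComponent_of_mem (isHomogeneous_C _ _),
        homogeneousComponent_C_mul, homogeneousComponent_C_mul, homogeneousComponent_of_mem (hhom a),
        homogeneousComponent_of_mem (hhom b), homogeneousComponent_of_mem ((hhom a).mul (hhom b))]
      simp
  · rw [← Matrix.exists_mulVec_eq_zero_iff]
    refine exists_congr fun u => and_congr_right fun _ => ?_
    simp only [eval_pderiv_quad Q hQ, mul_eq_zero, OfNat.ofNat_ne_zero, false_or, funext_iff, Pi.zero_apply]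
  · constructor
    · rintro ⟨a, b, hab, h⟩; exact rank_two Q hQ a b hab h
    · intro h
      obtain ⟨a, b, hf⟩ := factor Q hQ hQ0 (hrk (by omega))
      refine ⟨a, b, by_contra fun hab => ?_, hf⟩
      obtain ⟨c, hc⟩ := dep Q a b hf hab
      rw [rank_one Q hQ hQ0 c hc] at h
      omega
  · constructor
    · rintro ⟨a, h⟩; exact rank_one Q hQ hQ0 a (h.trans (sq _))
    · intro h
      obtain ⟨a, b, hf⟩ := factor Q hQ hQ0 (hrk (by omega))
      have hab : ¬ LinearIndependent k ![a, b] := fun hab => by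
        rw [rank_two Q hQ a b hab hf] at h; omega
      obtain ⟨c, hc⟩ := dep Q a b hf hab
      exact ⟨c, hc.trans (sq _).symm⟩

end Groth.Agent.PlaneConicRank
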